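import Cfsg.Agent.H542.G2X.Three

/-!
# `G₂(q)`, `q ≥ 3`, is recognized by its element orders (helper542, TEAM U-EXC)
-/

set_option autoImplicit false

namespace Cfsg.Agent.H542.G2X

open Cfsg Cfsg.Lie

universe u v

/-- **The row of `G₂(q)`.** -/
theorem row_g2' (hcl : Cfsg.Agent.H366.X.Cl.{u}) (hF : FrmC.{u}) (OT : Cfsg.Agent.OrdDiv.OrderTable.{u})
    {F : Type v} [Field F] [Fintype F] (h3 : 3 ≤ Fintype.card F) :
    Cfsg.Agent.H366.X.Rcg.{u, v} ↥(chevG2.group F) :=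
  row_g2 hcl hF (Three.smallQ_three OT) (Four.smallQ_four OT) h3

end Cfsg.Agent.H542.G2X
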