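import Cfsg.Agent.H542.G2X.FrameDef
import Cfsg.Agent.H366.X.Frame

/-!
# The frame of a group with a coclique `{2, p₁, p₂}` of its prime graph (helper542, TEAM U-EXC)
-/

set_option autoImplicit false

namespace Cfsg.Agent.H542.G2X

open Cfsg.Agent.H414.Vasiliev Cfsg.Agent.H414.Comp

universe u

theorem CocT.coc {G : Type*} [Group G] {p₁ p₂ : ℕ} (h : CocT G p₁ p₂) : Coc G {2, p₁, p₂} := by
  refine ⟨?_, ?_⟩
  · intro r hr
    simp only [Finset.mem_insert, Finset.mem_singleton] at hr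
    rcases hr with rfl | rfl | rfl
    · exact ⟨Nat.prime_two, h.d⟩
    · exact ⟨h.hp₁, h.d₁⟩
    · exact ⟨h.hp₂, h.d₂⟩
  · have k1 := h.h₁
    have k2 := h.h₂
    have k3 := h.h
    intro a ha b hb hab
    simp only [Finset.mem_insert, Finset.mem_singleton] at ha hb
    rcases ha with rfl | rfl | rfl <;> rcases hb with rfl | rfl | rfl
    · exact absurd rfl hab
    · exact k1
    · exact k2
    · rwa [mul_comm]
    · exact absurd rfl hab
    · exact k3
    · rwa [mul_comm]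
    · rwa [mul_comm]
    · exact absurd rfl hab

/-- **The frame.** -/
theorem frmC : FrmC.{u} := by
  intro G _ _ p₁ p₂ h
  classical
  have hC := h.coc
  have hns : ¬ Group.IsSolvable G := by
    intro hs
    have hs' : Group.IsSolvable ↥(⊤ : Subgroup G) :=
      Group.isSolvable_of_isSolvable_injective (Subgroup.subtype_injective _)
    refine Cfsg.Agent.H395.Coclique.coclique Nat.prime_two h.hp₁ h.hp₂ h.ne₁.symm h.ne₂.symm h.ne
      h.h₁ h.h₂ h.h ⊤ hs' ?_ ?_ h.d₂
    · rw [Subgroup.card_top]; exact h.d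
    · rw [Subgroup.card_top]; exact h.d₁
  obtain ⟨K, hKn, hK, hKmax⟩ := Cfsg.Agent.H366.X.exists_rad G
  obtain ⟨S, hS, hSn, hSc, -⟩ := Cfsg.Agent.H414.Vasiliev.main hns
    ⟨p₁, h.hp₁, h.ne₁, h.d₁, h.h₁⟩ K hK hKmax
  refine ⟨K, hKn, hK, S, hSn, hS.simple, ?_, hSc, ?_⟩
  · obtain ⟨a, b, hab⟩ := hS.noncomm
    exact fun h => hab (h.is_comm.comm a b)
  · intro p s hps
    exact Cfsg.Agent.H321.SpecEven.not_dvd K hK S hS hSc hps.ne₁ hps.ne₂ hps.ne hps.coc

end Cfsg.Agent.H542.G2X
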