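import Cfsg.Agent.H542.G2X.KMod
import Cfsg.Agent.LieClassical.FieldTransfer

/-!
# The Frobenius subgroup `13 : 6` of `PSL₂(13)` (helper542, TEAM U-EXC)
-/

set_option autoImplicit false

namespace Cfsg.Agent.H542.G2X.PslThirteen

open Subgroup Matrix

theorem conj_pow_eq {X : Type*} [Group X] {x h : X} (hr : h * x * h⁻¹ = x ^ 4) (i m : ℕ) :
    h ^ i * x ^ m * (h ^ i)⁻¹ = x ^ (m * 4 ^ i) := by
  induction i with
  | zero => simp
  | succ i ih =>
    calc h ^ (i + 1) * x ^ m * (h ^ (i + 1))⁻¹ = h * (h ^ i * x ^ m * (h ^ i)⁻¹) * h⁻¹ := by rw [pow_succ']; group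
      _ = (h * x * h⁻¹) ^ (m * 4 ^ i) := by rw [ih, conj_pow]
      _ = x ^ (m * 4 ^ (i + 1)) := by rw [hr, ← pow_mul, pow_succ]; congr 1; ring

theorem four_pow {i : ℕ} (hi : 0 < i) (hi6 : i < 6) : (4 : ZMod 13) ^ i - 1 ≠ 0 := by
  interval_cases i <;> decide

/-- the Frobenius group -/
theorem frob_of_rel {X : Type*} [Group X] {x h : X} (hx : orderOf x = 13) (hr : h * x * h⁻¹ = x ^ 4) :
    (∀ y ∈ zpowers x, ∀ i : ℕ, h ^ i * y * (h ^ i)⁻¹ ∈ zpowers x) ∧
      ∀ i, 0 < i → i < 6 → ∀ y ∈ zpowers x, h ^ i * y = y * h ^ i → y = 1 := by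
  classical
  have hfo : IsOfFinOrder x := by rw [← orderOf_pos_iff, hx]; norm_num
  constructor
  · intro y hy i
    obtain ⟨m, rfl⟩ := (hfo.mem_powers_iff_mem_zpowers).2 hy
    have := conj_pow_eq hr i m
    simp only at this ⊢
    rw [this]
    exact Subgroup.npow_mem_zpowers _ _
  · intro i hi hi6 y hy hc
    obtain ⟨m, rfl⟩ := (hfo.mem_powers_iff_mem_zpowers).2 hy
    simp only at hc ⊢
    have h1 := conj_pow_eq hr i m
    rw [hc, mul_inv_cancel_right, pow_eq_pow_iff_modEq, hx] at h1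
    have h2 : 13 ∣ m := by
      have h3 : ((m : ZMod 13)) = m * 4 ^ i := by
        have := (ZMod.natCast_eq_natCast_iff _ _ _).2 h1
        push_cast at this
        exact this
      rw [← ZMod.natCast_eq_zero_iff]
      have h4 : (m : ZMod 13) * (4 ^ i - 1) = 0 := by linear_combination -h3
      have : Fact (Nat.Prime 13) := ⟨by norm_num⟩
      rcases mul_eq_zero.1 h4 with h5 | h5
      · exact h5
      · exact absurd h5 (four_pow hi hi6)
    obtain ⟨k, rfl⟩ := h2
    rw [pow_mul, ← hx, pow_orderOf_eq_one, one_pow]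

abbrev SL13 := SpecialLinearGroup (Fin 2) (ZMod 13)

def xM : SL13 := ⟨!![1, 1; 0, 1], by decide⟩
def hM : SL13 := ⟨!![2, 0; 0, 7], by decide⟩

theorem rel : hM * xM * hM⁻¹ = xM ^ 4 := by
  have h : hM * xM = xM ^ 4 * hM := by decide +kernel
  rw [h, mul_inv_cancel_right]

theorem x_pow : xM ^ 13 = 1 := by decide +kernel
theorem hx2 : hM ^ 2 * xM ≠ xM * hM ^ 2 := by decide +kernel
theorem hx3 : hM ^ 3 * xM ≠ xM * hM ^ 3 := by decide +kernel
theorem xh : xM * hM ≠ hM * xM := by decide +kernel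
theorem h6 : (hM ^ 6).1 = -1 := by decide +kernel

theorem not_center {g k : SL13} (h : g * k ≠ k * g) : (g : SL13 ⧸ center SL13) ≠ 1 := by
  intro h1
  rw [QuotientGroup.eq_one_iff, mem_center_iff] at h1
  exact h (h1 k).symm

/-- **The Frobenius subgroup.** -/
theorem frob {F : Type*} [Field F] [Fintype F] (hF : Fintype.card F = 13) :
    ∃ (U : Subgroup (ProjectiveSpecialLinearGroup (Fin 2) F)) (c : ProjectiveSpecialLinearGroup (Fin 2) F),
      Nat.card U = 13 ∧ orderOf c = 6 ∧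
      (∀ x ∈ U, ∀ i : ℕ, c ^ i * x * (c ^ i)⁻¹ ∈ U) ∧
      ∀ i, 0 < i → i < 6 → ∀ x ∈ U, c ^ i * x = x * c ^ i → x = 1 := by
  have : Fact (Nat.Prime 13) := ⟨by norm_num⟩
  let e : F ≃+* ZMod 13 := FiniteField.ringEquivOfCardEq (by rw [hF, ZMod.card])
  let ε : ProjectiveSpecialLinearGroup (Fin 2) (ZMod 13) ≃* ProjectiveSpecialLinearGroup (Fin 2) F :=
    Cfsg.Agent.LieClassical.FieldTransfer.pslCongr e.symm
  let x : ProjectiveSpecialLinearGroup (Fin 2) (ZMod 13) := (xM : SL13 ⧸ center SL13)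
  let h : ProjectiveSpecialLinearGroup (Fin 2) (ZMod 13) := (hM : SL13 ⧸ center SL13)
  have hx : orderOf x = 13 := by
    apply orderOf_eq_prime
    · show ((xM ^ 13 : SL13) : SL13 ⧸ center SL13) = 1
      rw [x_pow]; rfl
    · exact not_center xh
  have hh : orderOf h = 6 := by
    have h1 : orderOf h ∣ 6 := by
      apply orderOf_dvd_of_pow_eq_one
      show ((hM ^ 6 : SL13) : SL13 ⧸ center SL13) = 1
      rw [QuotientGroup.eq_one_iff, mem_center_iff]
      intro g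
      apply Subtype.ext
      show g.1 * (hM ^ 6).1 = (hM ^ 6).1 * g.1
      rw [h6, mul_neg, neg_mul, mul_one, one_mul]
    have h2 : ¬ orderOf h ∣ 2 := by
      intro h2
      have h3 : h ^ 2 = 1 := orderOf_dvd_iff_pow_eq_one.1 h2
      exact not_center hx2 h3
    have h3 : ¬ orderOf h ∣ 3 := by
      intro h2
      have h3 : h ^ 3 = 1 := orderOf_dvd_iff_pow_eq_one.1 h2
      exact not_center hx3 h3
    have h4 := Nat.le_of_dvd (by norm_num) h1
    have h5 := orderOf_pos h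
    interval_cases orderOf h <;> omega
  have hr : h * x * h⁻¹ = x ^ 4 := congrArg (fun g : SL13 => (g : SL13 ⧸ center SL13)) rel
  have hεx : orderOf (ε x) = 13 := by rw [MulEquiv.orderOf_eq, hx]
  have hεr : ε h * ε x * (ε h)⁻¹ = (ε x) ^ 4 := by rw [← map_inv, ← map_mul, ← map_mul, hr, map_pow]
  obtain ⟨a1, a2⟩ := frob_of_rel hεx hεr
  exact ⟨zpowers (ε x), ε h, by rw [Nat.card_zpowers, hεx], by rw [MulEquiv.orderOf_eq, hh], a1, a2⟩

end Cfsg.Agent.H542.G2X.PslThirteen
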