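import Cfsg.Agent.H542.G2X.KMod
import Cfsg.Agent.H366.X.Sz

/-!
# `Sz(8)` above a solvable radical (helper542, TEAM U-EXC)

* `no_21`, `no_8` : automorphisms of `Sz(8)` have neither order `21` nor order `8`;
* `frob` : the Frobenius subgroup `13 : 4`.
-/

set_option autoImplicit false

namespace Cfsg.Agent.H542.G2X.SzEight

open Subgroup Cfsg Cfsg.Agent.H381.SzSpec Cfsg.Agent.H70.SzOut
open Cfsg.Agent.H98.SzPartition (torusOrders mem_torusOrders_iff odd_of_mem one_lt_of_mem eq_of_prime_dvd)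
open Cfsg.Agent.LieRecognition.SzMatrix (good)
open Cfsg.Agent.ThreePrime.SzRel (ofGood)

universe u v

/-- elements of order `r` are conjugate into a subgroup of order `r` if `r ^ 2 ∤ |S|` -/
theorem conj_into {S : Type*} [Group S] [Finite S] {r : ℕ} (hr : r.Prime) (D : Subgroup S) (hD : Nat.card D = r)
    (hr2 : ¬ r ^ 2 ∣ Nat.card S) {y : S} (hy : orderOf y = r) : ∃ c : S, c⁻¹ * y * c ∈ D := by
  have hrf : Fact r.Prime := ⟨hr⟩
  have hfac : (Nat.card S).factorization r = 1 := by
    have h1 : r ∣ Nat.card S := hD ▸ D.card_subgroup_dvd_card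
    have h2 : 0 < (Nat.card S).factorization r := hr.factorization_pos_of_dvd Nat.card_pos.ne' h1
    have h3 : ¬ 2 ≤ (Nat.card S).factorization r := by
      intro h
      exact hr2 ((hr.pow_dvd_iff_le_factorization Nat.card_pos.ne').2 h)
    omega
  have hyp : IsPGroup r (zpowers y) := IsPGroup.of_card (n := 1) (by rw [Nat.card_zpowers, hy, pow_one])
  obtain ⟨Q, hQ⟩ := hyp.exists_le_sylow
  have hDp : IsPGroup r D := IsPGroup.of_card (n := 1) (by rw [hD, pow_one])
  obtain ⟨P, hP⟩ := hDp.exists_le_sylow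
  have hPD : (P : Subgroup S) = D := by
    symm
    apply Subgroup.eq_of_le_of_card_ge hP
    rw [Sylow.card_eq_multiplicity, hfac, pow_one, hD]
  obtain ⟨x, hx⟩ := MulAction.exists_smul_eq S Q P
  refine ⟨x⁻¹, ?_⟩
  have h4 : x * y * x⁻¹ ∈ D := by
    rw [← hPD, ← hx, Sylow.coe_subgroup_smul, Subgroup.mem_pointwise_smul_iff_inv_smul_mem]
    have h5 : (MulAut.conj x)⁻¹ • (x * y * x⁻¹) = y := by
      show (MulAut.conj x)⁻¹ (x * y * x⁻¹) = y
      rw [← MulAut.conj_apply, MulAut.inv_apply_self]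
    rw [h5]
    exact hQ (mem_zpowers y)
  rwa [inv_inv]

theorem pow_conj_aux {X : Type*} [Group X] {e d : X} {j : ℕ} (he1 : e * d ^ j * e⁻¹ = d) (n : ℕ) :
    e ^ n * d ^ (j ^ n) * (e ^ n)⁻¹ = d := by
  induction n with
  | zero => simp
  | succ n ih =>
    have h1 : e * d ^ (j ^ (n + 1)) * e⁻¹ = d ^ (j ^ n) := by
      rw [pow_succ', pow_mul, ← conj_pow, he1]
    calc e ^ (n + 1) * d ^ (j ^ (n + 1)) * (e ^ (n + 1))⁻¹
        = e ^ n * (e * d ^ (j ^ (n + 1)) * e⁻¹) * (e ^ n)⁻¹ := by rw [pow_succ]; group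
      _ = d := by rw [h1, ih]

/-- the cube of an automorphism -/
theorem cube_eq {X : Type*} [Group X] (a : MulAut X) (g : X) (ha3 : a ^ 3 = 1) :
    (MulAut.conj g * a) ^ 3 = MulAut.conj (g * a g * a (a g)) := by
  ext1 x
  have h3 : a (a (a x)) = x := by
    have := congrArg (fun f : MulAut X => f x) ha3
    simpa [pow_succ] using this
  rw [pow_succ, pow_succ, pow_one]
  simp only [MulAut.mul_apply, MulAut.conj_apply, map_mul, map_inv, h3, mul_inv_rev, mul_assoc]

section

variable {F : Type v} [Field F] [Fintype F] (hF : Fintype.card F = 2 ^ (2 * 1 + 1))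

include hF

theorem card_ls : Nat.card (LS F 1) = 29120 := by
  rw [(Cfsg.Agent.S1163.result (le_refl 1) hF).1]
  norm_num

theorem conj_inj {s s' : LS F 1} (h : MulAut.conj s = MulAut.conj s') : s = s' := by
  have hc := Cfsg.Agent.H67.SzOdd.center_sz (le_refl 1) hF
  have h1 : s'⁻¹ * s ∈ Subgroup.center (LS F 1) := by
    rw [Subgroup.mem_center_iff]
    intro x
    have h2 := congrArg (fun f : MulAut (LS F 1) => f x) h
    simp only [MulAut.conj_apply] at h2
    have h3 : s'⁻¹ * (s * x * s⁻¹) * s = s'⁻¹ * (s' * x * s'⁻¹) * s := by rw [h2]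
    have h4 : s'⁻¹ * (s * x * s⁻¹) * s = s'⁻¹ * s * x := by group
    have h5 : s'⁻¹ * (s' * x * s'⁻¹) * s = x * (s'⁻¹ * s) := by group
    rw [h4, h5] at h3
    exact h3.symm
  rw [hc, Subgroup.mem_bot] at h1
  exact (inv_mul_eq_one.1 h1).symm

theorem exists_form (α : MulAut (LS F 1)) : ∃ (g : LS F 1) (σ : F ≃+* F),
    α = MulAut.conj g * fieldAut (good hF) σ ∧ σ ^ 3 = 1 := by
  obtain ⟨g, σ, h⟩ := Cfsg.Agent.H70.SzAutThm.exists_conj_field (le_refl 1) hF α
  refine ⟨g, σ, h, ?_⟩
  have hcard : Nat.card (F ≃+* F) = 3 := by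
    rw [Cfsg.Agent.Lib.FieldAutCard.card_ringAut (by norm_num) hF]
  rw [← hcard]
  exact pow_card_eq_one'

theorem aut_cube (α : MulAut (LS F 1)) : ∃ s, α ^ 3 = MulAut.conj s := by
  obtain ⟨g, σ, h, hσ⟩ := exists_form hF α
  set a := fieldAut (good hF) σ with ha
  have ha3 : a ^ 3 = 1 := by rw [ha, ← map_pow, hσ, map_one]
  exact ⟨g * a g * a (a g), h ▸ cube_eq a g ha3⟩

theorem no_8 {α : MulAut (LS F 1)} (h : orderOf α = 8) : False := by
  obtain ⟨s, hs⟩ := aut_cube hF α
  have h1 : orderOf (α ^ 3) = 8 := by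
    rw [orderOf_pow, h]
    norm_num
  rw [hs] at h1
  have h2 : 8 ∣ orderOf s := by
    rw [← h1]
    exact orderOf_map_dvd MulAut.conj s
  rcases spec (le_refl 1) hF s with h3 | ⟨n, hn, h3⟩
  · have := Nat.le_of_dvd (by norm_num) (h2.trans h3)
    omega
  · have h4 := odd_of_mem hn
    have h5 : Even n := even_iff_two_dvd.2 ((show 2 ∣ 8 by norm_num).trans (h2.trans h3))
    exact (Nat.not_even_iff_odd.2 h4) h5

theorem not_three (x : LS F 1) : ¬ 3 ∣ orderOf x := by
  intro h
  have h1 := h.trans (orderOf_dvd_natCard x)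
  rw [card_ls hF] at h1
  omega

theorem no_21 {α : MulAut (LS F 1)} (h : orderOf α = 21) : False := by
  classical
  obtain ⟨s, hs⟩ := aut_cube hF α
  obtain ⟨g, σ, hα, hσ⟩ := exists_form hF α
  set R := ofGood (good hF) with hR
  have h7 : orderOf s = 7 := by
    have h1 : orderOf (α ^ 3) = 7 := by rw [orderOf_pow, h]; norm_num
    rw [← h1, hs]
    exact (orderOf_injective (MulAut.conj (G := LS F 1)) (fun _ _ h => conj_inj hF h) s).symm
  have hfix : α s = s := by
    apply conj_inj hF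
    have h1 : MulAut.conj (α s) = α * MulAut.conj s * α⁻¹ := by
      ext1 x
      simp only [MulAut.mul_apply, MulAut.conj_apply, map_mul, map_inv]
      rw [MulAut.apply_inv_self]
    rw [h1, ← hs]
    group
  -- the torus
  let D : Subgroup (LS F 1) := (dHom R).range
  have hD : Nat.card D = 7 := by
    have h1 : Nat.card Fˣ = 7 := by
      rw [Nat.card_units, Nat.card_eq_fintype_card, hF]; norm_num
    rw [← h1]
    exact (Nat.card_congr (MonoidHom.ofInjective (dHom_injective R)).toEquiv).symm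
  obtain ⟨c, hc⟩ := conj_into (by norm_num) D hD (by rw [card_ls hF]; norm_num) h7
  obtain ⟨k, hk⟩ := hc
  have hk' : R.d k = c⁻¹ * s * c := hk
  have hs' : s = c * R.d k * c⁻¹ := by rw [hk']; group
  have hdo : orderOf (R.d k) = 7 := by
    rw [hk', ← h7]
    have := (MulAut.conj c⁻¹).orderOf_eq s
    rw [MulAut.conj_apply, inv_inv] at this
    exact this
  have hko : orderOf k = 7 := by
    rw [← hdo]
    exact (orderOf_injective (dHom R) (dHom_injective R) k).symm
  by_cases hσ1 : σ = 1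
  · -- inner
    rw [hσ1, map_one, mul_one] at hα
    have h1 : orderOf g = 21 := by
      rw [← h, hα]
      exact (orderOf_injective (MulAut.conj (G := LS F 1)) (fun _ _ h => conj_inj hF h) g).symm
    exact not_three hF g (by rw [h1]; norm_num)
  · -- `σ k = k ^ j`
    set a := fieldAut (good hF) σ with ha
    obtain ⟨j, hj⟩ : ∃ j : ℕ, Units.map (σ : F →* F) k = k ^ j := by
      have h1 : zpowers k = ⊤ := by
        apply Subgroup.eq_top_of_card_eq
        rw [Nat.card_zpowers, hko, Nat.card_units, Nat.card_eq_fintype_card, hF]; norm_num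
      have h2 : Units.map (σ : F →* F) k ∈ zpowers k := by rw [h1]; trivial
      rw [mem_zpowers_iff_mem_range_orderOf] at h2
      obtain ⟨j, -, hj⟩ := Finset.mem_image.1 h2
      exact ⟨j, hj.symm⟩
    have had : a (R.d k) = (R.d k) ^ j := by
      have h1 : a (R.d k) = R.d (Units.map (σ : F →* F) k) := fieldAut_d (good hF) σ k
      rw [h1, hj]
      exact map_pow (dHom R) k j
    -- `j ^ 3 ≡ 1`, `j ≢ 1`
    have hj3 : j ^ 3 ≡ 1 [MOD 7] := by
      have ha3 : a ^ 3 = 1 := by rw [ha, ← map_pow, hσ, map_one]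
      have h3 : a (a (a (R.d k))) = R.d k := by
        have := congrArg (fun f : MulAut (LS F 1) => f (R.d k)) ha3
        simpa [pow_succ] using this
      rw [had, map_pow, had, map_pow, map_pow, had, ← pow_mul, ← pow_mul] at h3
      have h4 : (R.d k) ^ (j * (j * j)) = (R.d k) ^ 1 := by rw [h3, pow_one]
      rw [pow_eq_pow_iff_modEq, hdo] at h4
      have : j ^ 3 = j * (j * j) := by ring
      rwa [this]
    have hj1 : ¬ j ≡ 1 [MOD 7] := by
      intro h1
      apply hσ1
      have h2 : k ^ j = k ^ 1 := by rw [pow_eq_pow_iff_modEq, hko]; exact h1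
      rw [h2, pow_one] at hj
      have h3 : zpowers k = ⊤ := by
        apply Subgroup.eq_top_of_card_eq
        rw [Nat.card_zpowers, hko, Nat.card_units, Nat.card_eq_fintype_card, hF]; norm_num
      ext x
      show σ x = x
      by_cases hx : x = 0
      · rw [hx, map_zero]
      · have h4 : Units.mk0 x hx ∈ zpowers k := by rw [h3]; trivial
        rw [mem_zpowers_iff_mem_range_orderOf] at h4
        obtain ⟨i, -, hi⟩ := Finset.mem_image.1 h4
        have h5 : Units.map (σ : F →* F) (Units.mk0 x hx) = Units.mk0 x hx := by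
          rw [← hi, map_pow, hj]
        exact congrArg Units.val h5
    -- the element `e`
    set e : LS F 1 := c⁻¹ * g * a c with he
    have he1 : e * (R.d k) ^ j * e⁻¹ = R.d k := by
      have h1 : g * (a c * (R.d k) ^ j * (a c)⁻¹) * g⁻¹ = c * R.d k * c⁻¹ := by
        have h2 := hfix
        rw [hs', hα, MulAut.mul_apply, MulAut.conj_apply, map_mul, map_mul, map_inv, had] at h2
        exact h2
      have h3 : e * (R.d k) ^ j * e⁻¹ = c⁻¹ * (g * (a c * (R.d k) ^ j * (a c)⁻¹) * g⁻¹) * c := by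
        rw [he]; group
      rw [h3, h1]
      group
    have hpow := pow_conj_aux he1
    -- the order of `e`
    have h5 : j ^ orderOf e ≡ 1 [MOD 7] := by
      have h6 := hpow (orderOf e)
      rw [pow_orderOf_eq_one] at h6
      have h7 : (R.d k) ^ (j ^ orderOf e) = (R.d k) ^ 1 := by
        rw [pow_one]
        simpa using h6
      rwa [pow_eq_pow_iff_modEq, hdo] at h7
    have h6 : orderOf (j : ZMod 7) = 3 := by
      have : Fact (Nat.Prime 3) := ⟨Nat.prime_three⟩
      apply orderOf_eq_prime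
      · have := (ZMod.natCast_eq_natCast_iff _ _ _).2 hj3
        push_cast at this
        exact this
      · intro h7
        apply hj1
        rw [← ZMod.natCast_eq_natCast_iff]
        push_cast
        exact h7
    have h8 : 3 ∣ orderOf e := by
      rw [← h6]
      apply orderOf_dvd_of_pow_eq_one
      have := (ZMod.natCast_eq_natCast_iff _ _ _).2 h5
      push_cast at this
      exact this
    exact not_three hF e h8

/-- the Frobenius subgroup `13 : 4` -/
theorem frob : ∃ (U : Subgroup (LS F 1)) (c : LS F 1), Nat.card U = 13 ∧ orderOf c = 4 ∧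
    (∀ x ∈ U, ∀ i : ℕ, c ^ i * x * (c ^ i)⁻¹ ∈ U) ∧ ∀ i, 0 < i → i < 4 → ∀ x ∈ U, c ^ i * x = x * c ^ i → x = 1 := by
  obtain ⟨e⟩ := Cfsg.Agent.OddCyclic.ClaimC.SzIso.iso (le_refl 1) hF
  have hk : (13 : ℕ) ∈ ({2 ^ (2 * 1 + 1) + 2 ^ (1 + 1) + 1, 2 ^ (2 * 1 + 1) - 2 ^ (1 + 1) + 1} : Set ℕ) :=
    Or.inl (by norm_num)
  obtain ⟨U, hUc, hU, hcent, hN⟩ := Cfsg.Agent.S0333.result (le_refl 1) hF 13 hk
  have hfin : Finite (Cfsg.Sz F 1) := Finite.of_equiv _ e.symm.toEquiv
  obtain ⟨c, hc, hn, hfix⟩ := Cfsg.Agent.H366.X.exists_four hUc hU (by decide) (by norm_num) hcent hN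
  refine ⟨U.map e.toMonoidHom, e c⁻¹, ?_, ?_, ?_, ?_⟩
  · rw [Subgroup.card_map_of_injective e.injective, hU]
  · rw [MulEquiv.orderOf_eq, orderOf_inv, hc]
  · rintro _ ⟨x, hx, rfl⟩ i
    refine ⟨(c ^ i)⁻¹ * x * c ^ i, hn x hx i, ?_⟩
    simp
  · rintro i hi hi4 _ ⟨x, hx, rfl⟩ h
    have h1 : (c⁻¹) ^ i * x = x * (c⁻¹) ^ i := by
      apply e.injective
      simpa using h
    have h2 : c ^ i * x = x * c ^ i := by
      have h3 : Commute ((c ^ i)⁻¹) x := by
        rw [← inv_pow]; exact h1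
      exact (Commute.inv_left_iff.1 h3).eq
    rw [hfix i hi hi4 x hx h2]
    exact map_one e

end

end Cfsg.Agent.H542.G2X.SzEight
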