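import Cfsg.Agent.H542.G2X.Row
import Cfsg.Agent.H542.G2X.SzEight
import Cfsg.Agent.H542.G2X.PslThirteen
import Cfsg.Agent.H421.Narrow

/-!
# Groups with the spectrum of `G₂(4)` (helper542, TEAM U-EXC)
-/

set_option autoImplicit false

namespace Cfsg.Agent.H542.G2X.Four

open Cfsg Cfsg.Lie Cfsg.Agent.OrdDiv Cfsg.Agent.H436 Cfsg.Agent.H421.Narrow
open Cfsg.Agent.H182.Orth Cfsg.Agent.H182.Sign Cfsg.Agent.H403.Classify
open Cfsg.Agent.LieClassical.OrthForms

universe u v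

/-- the spectrum -/
theorem om4 {m : ℕ} (h : Om 2 4 m) : m ∈ ({1, 2, 3, 4, 5, 6, 7, 8, 10, 12, 13, 15, 21} : Finset ℕ) := by
  unfold Om at h
  norm_num at h
  have key : ∀ {N : ℕ}, m ∣ N → 0 < N → m ≤ N := fun h1 h2 => Nat.le_of_dvd h2 h1
  rcases h with h | h | h | h | h | h | h
  all_goals
    have h1 := key h (by norm_num)
    interval_cases m <;> first | decide | omega

theorem nope {m : ℕ} (h : Om 2 4 m) (hm : m ∉ ({1, 2, 3, 4, 5, 6, 7, 8, 10, 12, 13, 15, 21} : Finset ℕ)) : False :=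
  hm (om4 h)

/-- the candidates -/
def cand : List Grp := [.psl 2 13, .psl 2 27, .psl 2 64, .psl 3 9, .psp 2 8, .psp 3 3, .psu 4 5, .oodd 3 3, .oplus 4 3,
  .g2 3, .g2 4, .td4 2, .sz 8]

/-- the check -/
def good (g : Grp) : Bool := ordN g % 7 != 0 || (ordN g % 13 != 0 || (ordN g % 11 == 0 || cand.contains g))

theorem good_all : ∀ g ∈ NL, good g = true := by decide +kernel

theorem mem_cand {g : Grp} (hg : g ∈ NL) (h7 : 7 ∣ ordN g) (h13 : 13 ∣ ordN g) (h11 : ¬ 11 ∣ ordN g) : g ∈ cand := by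
  have h := good_all g hg
  have e7 : ordN g % 7 = 0 := Nat.mod_eq_zero_of_dvd h7
  have e13 : ordN g % 13 = 0 := Nat.mod_eq_zero_of_dvd h13
  have e11 : ordN g % 11 ≠ 0 := fun h => h11 (Nat.dvd_of_mod_eq_zero h)
  simpa [good, e7, e13, e11] using h

/-! ### the names which are not `PSL₂(13)`, `Sz(8)`, `G₂(4)` -/

section elim

variable {S : Type u} [Group S] (h : ∀ x : S, Om 2 4 (orderOf x))

include h

theorem of_iso {T : Type*} [Group T] (e : S ≃* T) {m : ℕ} (hx : ∃ x : T, orderOf x = m)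
    (hm : m ∉ ({1, 2, 3, 4, 5, 6, 7, 8, 10, 12, 13, 15, 21} : Finset ℕ)) : False := by
  obtain ⟨x, rfl⟩ := hx
  refine nope (h (e.symm x)) ?_
  rwa [MulEquiv.orderOf_eq]

theorem no_psl2 {q m : ℕ} (hr : Real (.psl 2 q) S) (h4 : 4 ≤ q) (hm : m ∣ (q + 1) / Nat.gcd 2 (q - 1))
    (hm' : m ∉ ({1, 2, 3, 4, 5, 6, 7, 8, 10, 12, 13, 15, 21} : Finset ℕ)) : False := by
  obtain ⟨F, _, _, hF, ⟨e⟩⟩ := hr
  obtain ⟨l, hl⟩ := CharP.exists F
  have hlf : Fact l.Prime := ⟨CharP.char_is_prime F l⟩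
  have hs := S2475.result (F := F) l (by omega)
  have hmem : ∀ m : ℕ, (∃ x : Matrix.ProjectiveSpecialLinearGroup (Fin 2) F, orderOf x = m) ↔
      (m ∣ l ∨ m ∣ (Fintype.card F - 1) / Nat.gcd 2 (Fintype.card F - 1) ∨
        m ∣ (Fintype.card F + 1) / Nat.gcd 2 (Fintype.card F - 1)) := fun m => (Set.ext_iff.1 hs m)
  exact of_iso h e ((hmem m).2 (Or.inr (Or.inr (by rw [hF]; exact hm)))) hm'

theorem no_psl39 (hr : Real (.psl 3 9) S) : False := by
  obtain ⟨F, _, _, hF, ⟨e⟩⟩ := hr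
  obtain ⟨l, hl⟩ := CharP.exists F
  have hlf : Fact l.Prime := ⟨CharP.char_is_prime F l⟩
  exact of_iso h e (m := 91) ((H964.PrimeGraph.mem_spec3 (F := F) l 91).2 (Or.inl (by rw [hF]; norm_num))) (by decide)

theorem no_psp28 (hr : Real (.psp 2 8) S) : False := by
  obtain ⟨F, _, _, hF, ⟨e⟩⟩ := hr
  refine of_iso h e (m := 65) (Cfsg.Agent.H377.exists_psp_tor_minus (by norm_num) (by norm_num) (Or.inl ⟨by decide, ?_⟩))
    (by decide)
  rw [Nat.card_eq_fintype_card, hF]; norm_num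

theorem no_psp33 (hr : Real (.psp 3 3) S) : False := by
  obtain ⟨F, _, _, hF, ⟨e⟩⟩ := hr
  refine of_iso h e (m := 14) (Cfsg.Agent.H377.exists_psp_tor_minus (by norm_num) (by norm_num) (Or.inr ?_))
    (by decide)
  rw [Nat.card_eq_fintype_card, hF]; norm_num

theorem no_psu45 (hr : Real (.psu 4 5) S) : False := by
  obtain ⟨F, _, _, hF, ⟨e⟩⟩ := hr
  have hfin : Finite (PSU 4 F 5) := inferInstance
  obtain ⟨x, hx⟩ := H360.Iso.exists_subU hF (n := 4) (by norm_num)
  have h1 : 63 ∣ orderOf x := by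
    have h2 : Cfsg.Agent.H948.UProd.ph 5 2 = 126 := by decide
    have h3 : Nat.gcd 4 (5 + 1) = 2 := by decide
    rw [h3] at hx
    have h4 : 126 ∣ orderOf x * 2 := h2 ▸ hx
    omega
  exact of_iso h e (exists_of_dvd h1 ⟨x, rfl⟩) (by decide)

theorem no_oodd33 (hr : Real (.oodd 3 3) S) : False := by
  obtain ⟨F, _, _, hF, ⟨e⟩⟩ := hr
  have hc : Nat.card F = 3 := by rw [Nat.card_eq_fintype_card, hF]
  refine of_iso h e (m := 14) (Cfsg.Agent.H377.OOdd.exists_even_tor (by rw [hc]; decide) (by norm_num)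
    (Cfsg.Agent.H377.elt_tor_minus (by norm_num) (N := 2 * 14) ?_)) (by decide)
  rw [hc]; norm_num

theorem no_oplus (hr : Real (.oplus 4 3) S) : False := by
  obtain ⟨F, _, _, hF, ⟨e⟩⟩ := hr
  have hc : Nat.card F = 3 := by rw [Nat.card_eq_fintype_card, hF]
  have h1 : EltP F (1 + (4 - 1)) (-1 * -1) (Nat.lcm 1 (Nat.card F ^ (4 - 1) + 1)) :=
    ((elt_one (F := F) (n := 1) le_rfl (Or.inr rfl)).odd odd_one le_rfl).prod (elt_tor_minus (by omega) dvd_rfl)
  rw [show 1 + (4 - 1) = 4 by omega, show (-1 : ℤ) * -1 = 1 by norm_num, Nat.lcm_one_left, hc] at h1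
  have h2 := H360.Iso.exists_elt (sg_plusForm (F := F) 4) (le_refl 4) h1 (M := 14) (by norm_num)
  rw [coe_plusForm] at h2
  exact of_iso h e h2 (by decide)

theorem no_td4 (hr : Real (.td4 2) S) : False := by
  obtain ⟨F, _, _, hF, ⟨e⟩⟩ := hr
  have h1 := Cfsg.Agent.H437.Iso.d4_orderB (K := F) (q := 2) (Nat.prime_two.isPrimePow) hF
  exact of_iso h e (m := 9) h1 (by decide)

theorem no_g23 (hr : Real (.g2 3) S) : False := by
  obtain ⟨F, _, _, hF, ⟨e⟩⟩ := hr
  have P : Par 3 1 (Fintype.card F) := ⟨Nat.prime_three, le_refl 1, by rw [hF]; norm_num, by omega⟩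
  exact of_iso h e (m := 9) ((om_iff P).2 (by unfold Om; norm_num)) (by decide)

end elim

/-- Frobenius subgroups along an isomorphism -/
theorem frob_in {H : Type*} [Group H] (S : Subgroup H) {T : Type*} [Group T] (e : S ≃* T) {n : ℕ}
    (hT : ∃ (U : Subgroup T) (c : T), Nat.card U = 13 ∧ orderOf c = n ∧ (∀ x ∈ U, ∀ i : ℕ, c ^ i * x * (c ^ i)⁻¹ ∈ U) ∧
      ∀ i, 0 < i → i < n → ∀ x ∈ U, c ^ i * x = x * c ^ i → x = 1) :
    ∃ (A : Subgroup H) (h : H), A ≤ S ∧ Nat.card A = 13 ∧ orderOf h = n ∧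
      (∀ x ∈ A, h * x * h⁻¹ ∈ A) ∧ ∀ i, 0 < i → i < n → ∀ x ∈ A, h ^ i * x = x * h ^ i → x = 1 := by
  obtain ⟨U, c, hU, hc, hn, hf⟩ := hT
  let φ : T →* H := S.subtype.comp e.symm.toMonoidHom
  have hφ : Function.Injective φ := Subtype.val_injective.comp e.symm.injective
  refine ⟨U.map φ, φ c, ?_, ?_, ?_, ?_, ?_⟩
  · rintro _ ⟨x, -, rfl⟩
    exact (e.symm x).2
  · rw [Subgroup.card_map_of_injective hφ, hU]
  · rw [orderOf_injective φ hφ, hc]
  · rintro _ ⟨x, hx, rfl⟩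
    have h1 := hn x hx 1
    rw [pow_one] at h1
    exact ⟨_, h1, by rw [map_mul, map_mul, map_inv]⟩
  · rintro i hi hi4 _ ⟨x, hx, rfl⟩ h
    have h1 : c ^ i * x = x * c ^ i := by
      apply hφ
      rw [map_mul, map_mul, map_pow]
      exact h
    rw [hf i hi hi4 x hx h1, map_one]

section main

variable {G : Type u} [Group G] [Finite G] (hG : ∀ m, (∃ x : G, orderOf x = m) ↔ Om 2 4 m)
  (K : Subgroup G) [K.Normal] (S : Subgroup (G ⧸ K)) [S.Normal] (hS : IsSimpleGroup S)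
  (h7K : ¬ 7 ∣ Nat.card K) (h13K : ¬ 13 ∣ Nat.card K)

include hG

theorem hiso : ∀ r : ℕ, r.Prime → r ≠ 13 → ∀ g : G, orderOf g ≠ 13 * r := by
  intro r hr hne g hg
  have h1 := om4 ((hG _).1 ⟨g, hg⟩)
  have h2 := hr.two_le
  simp only [Finset.mem_insert, Finset.mem_singleton] at h1
  omega

theorem d13 : 13 ∣ Nat.card G := by
  obtain ⟨x, hx⟩ := (hG 13).2 (by unfold Om; norm_num)
  rw [← hx]; exact orderOf_dvd_natCard x

include hS h13K

/-- `PSL₂(13)` -/
theorem no_psl13 {g : Grp} (hg : IsNamed g S) (h : g = .psl 2 13) : False := by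
  subst h
  have hcard : Nat.card S = 1092 := hg.ord.trans (by decide +kernel)
  obtain ⟨F, _, _, hF, ⟨e⟩⟩ := hg.real
  have h5K : 5 ∣ Nat.card K := by
    by_contra h5
    obtain ⟨x, hx⟩ := (hG 5).2 (by unfold Om; norm_num)
    have h1 : orderOf (x : G ⧸ K) = 5 := by
      rw [KMod.orderOf_mk K, hx]
      rw [hx]
      exact (Nat.Prime.coprime_iff_not_dvd (by norm_num)).2 h5
    obtain ⟨y, hy⟩ := KMod.cop_act S (p := 5) (r := 13) (by norm_num) (by norm_num) (by rw [hcard]; norm_num)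
      (by rw [hcard]; norm_num) (by rw [hcard]; norm_num) (by norm_num) h1
    obtain ⟨z, hz⟩ := Cfsg.Agent.H373.Recog.exists_lift K y
    exact nope ((hG _).1 ⟨z, rfl⟩) (by rw [hz, hy]; decide)
  obtain ⟨A, c, hAS, hA, hc, hcA, hfix⟩ := frob_in S e (PslThirteen.frob hF)
  obtain ⟨⟨y, -, hy⟩, -⟩ := KMod.frob_lift K (a := 13) (t := 5) (by norm_num) (d13 hG) h13K (hiso hG) (by norm_num) h5K S
    hS (by rw [hcard]; norm_num) A hAS (by rintro rfl; rw [Subgroup.card_bot] at hA; omega) (by rw [hA]; norm_num) c hcA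
    (by rw [hc]; exact hfix)
  rw [hc] at hy
  exact nope ((hG 30).1 (exists_of_dvd hy ⟨y, rfl⟩)) (by decide)

include h7K

/-- `Sz(8)` -/
theorem no_sz8 (hSc : Subgroup.centralizer (S : Set (G ⧸ K)) = ⊥) (hr : Real (.sz 8) S) : False := by
  obtain ⟨F, _, _, m, hm, hF, h8, ⟨e⟩⟩ := hr
  have hm1 : m = 1 := by
    have h9 : 2 ^ (2 * m + 1) = 2 ^ 3 := by rw [← h8]; norm_num
    have := Nat.pow_right_injective (le_refl 2) h9
    omega
  subst hm1
  have hF' : Fintype.card F = 2 ^ (2 * 1 + 1) := by rw [hF]; norm_num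
  -- the action on `S`
  let ψ : G ⧸ K →* MulAut (Cfsg.Agent.H381.SzSpec.LS F 1) := (MulAut.congr e).toMonoidHom.comp MulAut.conjNormal
  have hψ : Function.Injective ψ := by
    rw [injective_iff_map_eq_one]
    intro x hx
    have h1 : (MulAut.conjNormal x : MulAut S) = 1 := by
      apply (MulAut.congr e).injective
      rw [map_one]
      exact hx
    have h2 : x ∈ Subgroup.centralizer (S : Set (G ⧸ K)) := by
      rw [Subgroup.mem_centralizer_iff]
      intro s hs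
      have h3 := congrArg (fun f : MulAut S => ((f ⟨s, hs⟩ : S) : G ⧸ K)) h1
      simp only [MulAut.conjNormal_apply, MulAut.one_apply] at h3
      exact (mul_inv_eq_iff_eq_mul.1 h3).symm
    rw [hSc, Subgroup.mem_bot] at h2
    exact h2
  have hψo : ∀ x, orderOf (ψ x) = orderOf x := fun x => orderOf_injective ψ hψ x
  have h2K : 2 ∣ Nat.card K := by
    by_contra h2
    obtain ⟨x, hx⟩ := (hG 8).2 (by unfold Om; norm_num)
    have h1 : orderOf (x : G ⧸ K) = 8 := by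
      rw [KMod.orderOf_mk K, hx]
      rw [hx]
      exact Nat.Coprime.pow_left 3 ((Nat.Prime.coprime_iff_not_dvd (by norm_num)).2 h2)
    exact SzEight.no_8 hF' (α := ψ x) (by rw [hψo, h1])
  have h3K : 3 ∣ Nat.card K := by
    by_contra h3
    obtain ⟨x, hx⟩ := (hG 21).2 (by unfold Om; norm_num)
    have h1 : orderOf (x : G ⧸ K) = 21 := by
      rw [KMod.orderOf_mk K, hx]
      rw [hx]
      exact Nat.Coprime.mul_left (m := 3) (n := 7) ((Nat.Prime.coprime_iff_not_dvd (by norm_num)).2 h3)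
        ((Nat.Prime.coprime_iff_not_dvd (by norm_num)).2 h7K)
    exact SzEight.no_21 hF' (α := ψ x) (by rw [hψo, h1])
  obtain ⟨A, c, hAS, hA, hc, hcA, hfix⟩ := frob_in S e (SzEight.frob hF')
  have h13S : 13 ∣ Nat.card S := by
    rw [← hA]
    exact Subgroup.card_dvd_of_le hAS
  have hA1 : A ≠ ⊥ := by rintro rfl; rw [Subgroup.card_bot] at hA; omega
  obtain ⟨⟨y, hyc, hy⟩, -⟩ := KMod.frob_lift K (a := 13) (t := 2) (by norm_num) (d13 hG) h13K (hiso hG) (by norm_num) h2K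
    S hS h13S A hAS hA1 (by rw [hA]; norm_num) c hcA (by rw [hc]; exact hfix)
  have hy8 : orderOf y = 8 := by
    rw [hc] at hy
    have h1 := om4 ((hG _).1 ⟨y, rfl⟩)
    simp only [Finset.mem_insert, Finset.mem_singleton] at h1
    omega
  obtain ⟨-, h24⟩ := KMod.frob_lift K (a := 13) (t := 3) (by norm_num) (d13 hG) h13K (hiso hG) (by norm_num) h3K
    S hS h13S A hAS hA1 (by rw [hA]; norm_num) c hcA (by rw [hc]; exact hfix)
  obtain ⟨z, hz⟩ := h24 y hyc (by rw [hy8]; norm_num)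
  exact nope ((hG _).1 ⟨z, rfl⟩) (by rw [hz, hy8]; decide)

end main

/-- **The socle of a group with the spectrum of `G₂(4)`.** -/
theorem smallQ_four (OT : OrderTable.{u}) : SmallQ.{u, v} 4 := by
  intro F _ _ hF G _ _ hω K _ hK S _ hS hSna hkn hSc h7K h13K h7S h13S
  have P : Par 2 2 (Fintype.card F) := ⟨Nat.prime_two, by norm_num, by rw [hF]; norm_num, by omega⟩
  have hG : ∀ m, (∃ x : G, orderOf x = m) ↔ Om 2 4 m := by
    intro m
    rw [om_of_spec P hω, hF]
  have hSom : ∀ x : S, Om 2 4 (orderOf x) := by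
    intro x
    obtain ⟨g, hg⟩ := Cfsg.Agent.H373.Recog.exists_lift K (x : G ⧸ K)
    rw [Subgroup.orderOf_coe] at hg
    exact (hG _).1 ⟨g, hg⟩
  obtain ⟨g, hg⟩ := exists_named OT hkn (fun h => hSna ⟨⟨h⟩⟩)
  have hpS : ∀ r : ℕ, r.Prime → r ∣ Nat.card S → Om 2 4 r := by
    intro r hr hd
    have := Fact.mk hr
    obtain ⟨x, hx⟩ := exists_prime_orderOf_dvd_card' r hd
    rw [← hx]
    exact hSom x
  have hSm : Sm (Nat.card S) := by
    intro r hr hd
    have h1 := om4 (hpS r hr hd)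
    simp only [Finset.mem_insert, Finset.mem_singleton] at h1
    have h15 : r ≠ 15 := by rintro rfl; exact absurd hr (by norm_num)
    have h21 : r ≠ 21 := by rintro rfl; exact absurd hr (by norm_num)
    omega
  have hdvd : ∀ r : ℕ, r.Prime → Om 2 4 r → ¬ r ∣ Nat.card K → ¬ r ∣ S.index → r ∣ Nat.card S := by
    intro r hr ho h1 h2
    obtain ⟨x, hx⟩ := (hG r).2 ho
    have h3 : r ∣ Nat.card G := by rw [← hx]; exact orderOf_dvd_natCard x
    rw [Subgroup.card_eq_card_quotient_mul_card_subgroup K] at h3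
    rcases hr.dvd_mul.1 h3 with h4 | h4
    · rw [← Subgroup.card_mul_index S] at h4
      rcases hr.dvd_mul.1 h4 with h5 | h5
      · exact h5
      · exact absurd h5 h2
    · exact absurd h4 h1
  have h7 : 7 ∣ ordN g := by rw [← hg.ord]; exact hdvd 7 (by norm_num) (by unfold Om; norm_num) h7K h7S
  have h13 : 13 ∣ ordN g := by rw [← hg.ord]; exact hdvd 13 (by norm_num) (by unfold Om; norm_num) h13K h13S
  have h11 : ¬ 11 ∣ ordN g := by
    rw [← hg.ord]
    intro hd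
    exact nope (hpS 11 (by norm_num) hd) (by decide)
  have hmem := mem_cand (narrow hg hSm) h7 h13 h11
  have hr := hg.real
  simp only [cand, List.mem_cons, List.not_mem_nil, or_false] at hmem
  rcases hmem with h | h | h | h | h | h | h | h | h | h | h | h | h
  · exact (no_psl13 hG K S hS h13K hg h).elim
  · subst h; exact (no_psl2 hSom (m := 14) hr (by norm_num) (by norm_num) (by decide)).elim
  · subst h; exact (no_psl2 hSom (m := 65) hr (by norm_num) (by norm_num) (by decide)).elim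
  · subst h; exact (no_psl39 hSom hr).elim
  · subst h; exact (no_psp28 hSom hr).elim
  · subst h; exact (no_psp33 hSom hr).elim
  · subst h; exact (no_psu45 hSom hr).elim
  · subst h; exact (no_oodd33 hSom hr).elim
  · subst h; exact (no_oplus hSom hr).elim
  · subst h; exact (no_g23 hSom hr).elim
  · subst h
    obtain ⟨F', _, _, hF', ⟨e⟩⟩ := hr
    exact ⟨e.trans (Cfsg.Agent.H64.ChevField.groupCongr (FiniteField.ringEquivOfCardEq (by rw [hF', hF])) Lie.chevG2)⟩
  · subst h; exact (no_td4 hSom hr).elim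
  · subst h; exact (no_sz8 hG K S hS h7K h13K hSc hr).elim

end Cfsg.Agent.H542.G2X.Four
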