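import Cfsg.Agent.H542.G2X.Four

/-!
# Groups with the spectrum of `G₂(3)` (helper542, TEAM U-EXC)
-/

set_option autoImplicit false

namespace Cfsg.Agent.H542.G2X.Three

open Cfsg Cfsg.Lie Cfsg.Agent.OrdDiv Cfsg.Agent.H436 Cfsg.Agent.H421.Narrow

universe u v

/-- the spectrum -/
theorem om3 {m : ℕ} (h : Om 3 3 m) : m ∈ ({1, 2, 3, 4, 6, 7, 8, 9, 12, 13} : Finset ℕ) := by
  unfold Om at h
  norm_num at h
  have key : ∀ {N : ℕ}, m ∣ N → 0 < N → m ≤ N := fun h1 h2 => Nat.le_of_dvd h2 h1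
  rcases h with h | h | h | h | h | h
  all_goals
    have h1 := key h (by norm_num)
    interval_cases m <;> first | decide | omega

theorem nope {m : ℕ} (h : Om 3 3 m) (hm : m ∉ ({1, 2, 3, 4, 6, 7, 8, 9, 12, 13} : Finset ℕ)) : False :=
  hm (om3 h)

/-- the candidates -/
def cand : List Grp := [.psl 2 13, .psl 2 27, .g2 3, .td4 2]

/-- the check -/
def good (g : Grp) : Bool := ordN g % 7 != 0 || (ordN g % 13 != 0 || (ordN g % 11 == 0 || (ordN g % 5 == 0 ||
  cand.contains g)))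

theorem good_all : ∀ g ∈ NL, good g = true := by decide +kernel

theorem mem_cand {g : Grp} (hg : g ∈ NL) (h7 : 7 ∣ ordN g) (h13 : 13 ∣ ordN g) (h11 : ¬ 11 ∣ ordN g)
    (h5 : ¬ 5 ∣ ordN g) : g ∈ cand := by
  have h := good_all g hg
  have e7 : ordN g % 7 = 0 := Nat.mod_eq_zero_of_dvd h7
  have e13 : ordN g % 13 = 0 := Nat.mod_eq_zero_of_dvd h13
  have e11 : ordN g % 11 ≠ 0 := fun h => h11 (Nat.dvd_of_mod_eq_zero h)
  have e5 : ordN g % 5 ≠ 0 := fun h => h5 (Nat.dvd_of_mod_eq_zero h)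
  simpa [good, e7, e13, e11, e5] using h

section elim

variable {S : Type u} [Group S] (h : ∀ x : S, Om 3 3 (orderOf x))

include h

theorem of_iso {T : Type*} [Group T] (e : S ≃* T) {m : ℕ} (hx : ∃ x : T, orderOf x = m)
    (hm : m ∉ ({1, 2, 3, 4, 6, 7, 8, 9, 12, 13} : Finset ℕ)) : False := by
  obtain ⟨x, rfl⟩ := hx
  refine nope (h (e.symm x)) ?_
  rwa [MulEquiv.orderOf_eq]

theorem no_psl27 (hr : Real (.psl 2 27) S) : False := by
  obtain ⟨F, _, _, hF, ⟨e⟩⟩ := hr
  obtain ⟨l, hl⟩ := CharP.exists F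
  have hlf : Fact l.Prime := ⟨CharP.char_is_prime F l⟩
  have hs := S2475.result (F := F) l (by omega)
  have hmem : ∀ m : ℕ, (∃ x : Matrix.ProjectiveSpecialLinearGroup (Fin 2) F, orderOf x = m) ↔
      (m ∣ l ∨ m ∣ (Fintype.card F - 1) / Nat.gcd 2 (Fintype.card F - 1) ∨
        m ∣ (Fintype.card F + 1) / Nat.gcd 2 (Fintype.card F - 1)) := fun m => (Set.ext_iff.1 hs m)
  exact of_iso h e ((hmem 14).2 (Or.inr (Or.inr (by rw [hF]; norm_num)))) (by decide)

theorem no_td4 (hr : Real (.td4 2) S) : False := by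
  obtain ⟨F, _, _, hF, ⟨e⟩⟩ := hr
  have h1 := Cfsg.Agent.H437.Iso.d4_orderA (K := F) (q := 2) (Nat.prime_two.isPrimePow) hF
  exact of_iso h e (m := 21) h1 (by decide)

end elim

theorem pow_dec : ∀ z : ZMod 13, z ^ 9 = 1 → z ^ 3 = 1 := by decide

/-- **A group of order nine acting on `PSL₂(13)`.** -/
theorem act9 {H : Type*} [Group H] [Finite H] (S : Subgroup H) [S.Normal] (hcard : Nat.card S = 1092)
    (A : Subgroup S) (hA : Nat.card A = 13) {c : S} (hc : orderOf c = 6) (hcA : ∀ a ∈ A, c * a * c⁻¹ ∈ A)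
    {x : H} (hx : orderOf x = 9) : ∃ y : H, orderOf y = 39 := by
  classical
  have h13 : Fact (Nat.Prime 13) := ⟨by norm_num⟩
  have h3f : Fact (Nat.Prime 3) := ⟨Nat.prime_three⟩
  have hfac : (Nat.card S).factorization 13 = 1 := by
    have h2 : 0 < (Nat.card S).factorization 13 :=
      Nat.Prime.factorization_pos_of_dvd (by norm_num) Nat.card_pos.ne' (by rw [hcard]; norm_num)
    have h3 : ¬ 2 ≤ (Nat.card S).factorization 13 := by
      intro h
      have h4 := (Nat.Prime.pow_dvd_iff_le_factorization (by norm_num : Nat.Prime 13) Nat.card_pos.ne').2 h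
      rw [hcard] at h4
      norm_num at h4
    omega
  have hAp : IsPGroup 13 A := IsPGroup.of_card (n := 1) (by rw [hA, pow_one])
  obtain ⟨P₀, hP₀⟩ := hAp.exists_le_sylow
  have hPA : (P₀ : Subgroup S) = A := by
    symm
    apply Subgroup.eq_of_le_of_card_ge hP₀
    rw [Sylow.card_eq_multiplicity, hfac, pow_one, hA]
  -- the number of Sylow subgroups
  have hnum : ¬ 3 ∣ Nat.card (Sylow 13 S) := by
    rw [P₀.card_eq_index_normalizer]
    intro hd
    have hN6 : 6 ∣ Nat.card (Subgroup.normalizer ((P₀ : Subgroup S) : Set S)) := by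
      rw [← hc]
      refine Subgroup.orderOf_dvd_natCard _ ?_
      rw [hPA]
      exact Subgroup.mem_normalizer_fintype hcA
    have hN13 : 13 ∣ Nat.card (Subgroup.normalizer ((P₀ : Subgroup S) : Set S)) := by
      have h1 : Nat.card (P₀ : Subgroup S) ∣ Nat.card (Subgroup.normalizer ((P₀ : Subgroup S) : Set S)) :=
        Subgroup.card_dvd_of_le Subgroup.le_normalizer
      rwa [hPA, hA, ← hPA] at h1
    have hN : 78 ∣ Nat.card (Subgroup.normalizer ((P₀ : Subgroup S) : Set S)) :=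
      Nat.Coprime.mul_dvd_of_dvd_of_dvd (by norm_num : Nat.Coprime 6 13) hN6 hN13
    have h1 := (Subgroup.normalizer ((P₀ : Subgroup S) : Set S)).card_mul_index
    rw [hcard] at h1
    have h2 : 78 * 3 ∣ 1092 := by
      rw [← h1]
      exact mul_dvd_mul hN hd
    norm_num at h2
  -- the action
  let φ : H →* MulAut S := MulAut.conjNormal
  let Z := Subgroup.zpowers x
  have hZp : IsPGroup 3 Z := IsPGroup.of_card (n := 2) (by rw [Nat.card_zpowers, hx]; norm_num)
  let _ : MulAction Z (Sylow 13 S) := MulAction.compHom (Sylow 13 S) (φ.comp Z.subtype)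
  obtain ⟨P, hP⟩ := hZp.nonempty_fixed_point_of_prime_not_dvd_card (Sylow 13 S) hnum
  have hPc : Nat.card P = 13 := by
    rw [Sylow.card_eq_multiplicity, hfac, pow_one]
  have hPfix : φ x • P = P := hP ⟨x, Subgroup.mem_zpowers x⟩
  obtain ⟨y, hy⟩ := exists_prime_orderOf_dvd_card' (G := P) 13 (by rw [hPc])
  have hyo : orderOf ((y : S) : H) = 13 := by rw [Subgroup.orderOf_coe, Subgroup.orderOf_coe, hy]
  have hyP : (P : Subgroup S) = Subgroup.zpowers (y : S) := by
    symm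
    apply Subgroup.eq_of_le_of_card_ge
    · rw [Subgroup.zpowers_le]; exact y.2
    · rw [Nat.card_zpowers, Subgroup.orderOf_coe, hy]
      exact hPc.le
  have hmem : φ x (y : S) ∈ (P : Subgroup S) := by
    have h1 : φ x (y : S) ∈ ((φ x • P : Sylow 13 S) : Subgroup S) :=
      Subgroup.smul_mem_pointwise_smul (y : S) (φ x) (P : Subgroup S) y.2
    rwa [hPfix] at h1
  have hmem' : φ x (y : S) ∈ Subgroup.zpowers (y : S) := hyP.le hmem
  rw [mem_zpowers_iff_mem_range_orderOf] at hmem'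
  obtain ⟨k, -, hk⟩ := Finset.mem_image.1 hmem'
  have hk' : x * ((y : S) : H) * x⁻¹ = ((y : S) : H) ^ k := by
    have := congrArg Subtype.val hk
    rw [MulAut.conjNormal_apply] at this
    rw [← this]; rfl
  have hpow : ∀ n : ℕ, x ^ n * ((y : S) : H) * (x ^ n)⁻¹ = ((y : S) : H) ^ (k ^ n) := by
    intro n
    induction n with
    | zero => simp
    | succ n ih =>
      calc x ^ (n + 1) * ((y : S) : H) * (x ^ (n + 1))⁻¹ = x * (x ^ n * ((y : S) : H) * (x ^ n)⁻¹) * x⁻¹ := by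
            rw [pow_succ']; group
        _ = (x * ((y : S) : H) * x⁻¹) ^ (k ^ n) := by rw [ih, conj_pow]
        _ = ((y : S) : H) ^ (k ^ (n + 1)) := by rw [hk', ← pow_mul, pow_succ']
  have h1 : ((y : S) : H) ^ (k ^ 9) = ((y : S) : H) ^ 1 := by
    rw [← hpow 9, ← hx, pow_orderOf_eq_one]; simp
  rw [pow_eq_pow_iff_modEq, hyo] at h1
  have h2 : (k : ZMod 13) ^ 9 = 1 := by
    have := (ZMod.natCast_eq_natCast_iff _ _ _).2 h1
    push_cast at this
    exact this
  have h3 : (k : ZMod 13) ^ 3 = 1 := pow_dec _ h2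
  have h4 : k ^ 3 ≡ 1 [MOD 13] := by
    rw [← ZMod.natCast_eq_natCast_iff]
    push_cast
    exact h3
  have h5 : ((y : S) : H) ^ (k ^ 3) = ((y : S) : H) ^ 1 := by
    rw [pow_eq_pow_iff_modEq, hyo]; exact h4
  have h6 := hpow 3
  rw [h5, pow_one] at h6
  have hcomm : Commute (x ^ 3) ((y : S) : H) := mul_inv_eq_iff_eq_mul.1 h6
  have hx3 : orderOf (x ^ 3) = 3 := by rw [orderOf_pow, hx]; norm_num
  refine ⟨x ^ 3 * (y : S), ?_⟩
  rw [hcomm.orderOf_mul_eq_mul_orderOf_of_coprime, hx3, hyo]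
  rw [hx3, hyo]
  norm_num

section main

variable {G : Type u} [Group G] [Finite G] (hG : ∀ m, (∃ x : G, orderOf x = m) ↔ Om 3 3 m)
  (K : Subgroup G) [K.Normal] (S : Subgroup (G ⧸ K)) [S.Normal] (hS : IsSimpleGroup S)
  (h13K : ¬ 13 ∣ Nat.card K)

include hG

omit [Finite G] in
theorem hiso : ∀ r : ℕ, r.Prime → r ≠ 13 → ∀ g : G, orderOf g ≠ 13 * r := by
  intro r hr hne g hg
  have h1 := om3 ((hG _).1 ⟨g, hg⟩)
  have h2 := hr.two_le
  simp only [Finset.mem_insert, Finset.mem_singleton] at h1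
  omega

omit [Finite G] in
theorem d13 : 13 ∣ Nat.card G := by
  obtain ⟨x, hx⟩ := (hG 13).2 (by unfold Om; norm_num)
  rw [← hx]; exact orderOf_dvd_natCard x

include hS h13K

/-- `PSL₂(13)` -/
theorem no_psl13 {g : Grp} (hg : IsNamed g S) (h : g = .psl 2 13) : False := by
  subst h
  have hcard : Nat.card S = 1092 := hg.ord.trans (by decide +kernel)
  obtain ⟨F, _, _, hF, ⟨e⟩⟩ := hg.real
  have h3K : 3 ∣ Nat.card K := by
    by_contra h3
    obtain ⟨x, hx⟩ := (hG 9).2 (by unfold Om; norm_num)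
    have h1 : orderOf (x : G ⧸ K) = 9 := by
      rw [KMod.orderOf_mk K, hx]
      rw [hx]
      exact Nat.Coprime.pow_left 2 ((Nat.Prime.coprime_iff_not_dvd (by norm_num)).2 h3)
    obtain ⟨U, c, hU, hc, hn, hf⟩ := PslThirteen.frob hF
    obtain ⟨y, hy⟩ := act9 S hcard (U.map e.symm.toMonoidHom) (c := e.symm c)
      (by rw [Subgroup.card_map_of_injective e.symm.injective, hU]) (by rw [MulEquiv.orderOf_eq, hc]) (by
        rintro _ ⟨a, ha, rfl⟩
        have h2 := hn a ha 1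
        rw [pow_one] at h2
        exact ⟨_, h2, by simp⟩) h1
    obtain ⟨z, hz⟩ := Cfsg.Agent.H373.Recog.exists_lift K y
    exact nope ((hG _).1 ⟨z, rfl⟩) (by rw [hz, hy]; decide)
  obtain ⟨A, c, hAS, hA, hc, hcA, hfix⟩ := Four.frob_in S e (PslThirteen.frob hF)
  obtain ⟨⟨y, -, hy⟩, -⟩ := KMod.frob_lift K (a := 13) (t := 3) (by norm_num) (d13 hG) h13K (hiso hG) (by norm_num) h3K S
    hS (by rw [hcard]; norm_num) A hAS (by rintro rfl; rw [Subgroup.card_bot] at hA; omega) (by rw [hA]; norm_num) c hcA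
    (by rw [hc]; exact hfix)
  rw [hc] at hy
  exact nope ((hG 18).1 (exists_of_dvd hy ⟨y, rfl⟩)) (by decide)

end main

/-- **The socle of a group with the spectrum of `G₂(3)`.** -/
theorem smallQ_three (OT : OrderTable.{u}) : SmallQ.{u, v} 3 := by
  intro F _ _ hF G _ _ hω K _ hK S _ hS hSna hkn hSc h7K h13K h7S h13S
  have P : Par 3 1 (Fintype.card F) := ⟨Nat.prime_three, le_refl 1, by rw [hF]; norm_num, by omega⟩
  have hG : ∀ m, (∃ x : G, orderOf x = m) ↔ Om 3 3 m := by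
    intro m
    rw [om_of_spec P hω, hF]
  have hSom : ∀ x : S, Om 3 3 (orderOf x) := by
    intro x
    obtain ⟨g, hg⟩ := Cfsg.Agent.H373.Recog.exists_lift K (x : G ⧸ K)
    rw [Subgroup.orderOf_coe] at hg
    exact (hG _).1 ⟨g, hg⟩
  obtain ⟨g, hg⟩ := exists_named OT hkn (fun h => hSna ⟨⟨h⟩⟩)
  have hpS : ∀ r : ℕ, r.Prime → r ∣ Nat.card S → Om 3 3 r := by
    intro r hr hd
    have := Fact.mk hr
    obtain ⟨x, hx⟩ := exists_prime_orderOf_dvd_card' r hd
    rw [← hx]
    exact hSom x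
  have hSm : Sm (Nat.card S) := by
    intro r hr hd
    have h1 := om3 (hpS r hr hd)
    simp only [Finset.mem_insert, Finset.mem_singleton] at h1
    omega
  have hdvd : ∀ r : ℕ, r.Prime → Om 3 3 r → ¬ r ∣ Nat.card K → ¬ r ∣ S.index → r ∣ Nat.card S := by
    intro r hr ho h1 h2
    obtain ⟨x, hx⟩ := (hG r).2 ho
    have h3 : r ∣ Nat.card G := by rw [← hx]; exact orderOf_dvd_natCard x
    rw [Subgroup.card_eq_card_quotient_mul_card_subgroup K] at h3
    rcases hr.dvd_mul.1 h3 with h4 | h4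
    · rw [← Subgroup.card_mul_index S] at h4
      rcases hr.dvd_mul.1 h4 with h5 | h5
      · exact h5
      · exact absurd h5 h2
    · exact absurd h4 h1
  have h7 : 7 ∣ ordN g := by rw [← hg.ord]; exact hdvd 7 (by norm_num) (by unfold Om; norm_num) h7K h7S
  have h13 : 13 ∣ ordN g := by rw [← hg.ord]; exact hdvd 13 (by norm_num) (by unfold Om; norm_num) h13K h13S
  have h11 : ¬ 11 ∣ ordN g := by
    rw [← hg.ord]
    intro hd
    exact nope (hpS 11 (by norm_num) hd) (by decide)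
  have h5 : ¬ 5 ∣ ordN g := by
    rw [← hg.ord]
    intro hd
    exact nope (hpS 5 (by norm_num) hd) (by decide)
  have hmem := mem_cand (narrow hg hSm) h7 h13 h11 h5
  have hr := hg.real
  simp only [cand, List.mem_cons, List.not_mem_nil, or_false] at hmem
  rcases hmem with h | h | h | h
  · exact (no_psl13 hG K S hS h13K hg h).elim
  · subst h; exact (no_psl27 hSom hr).elim
  · subst h
    obtain ⟨F', _, _, hF', ⟨e⟩⟩ := hr
    exact ⟨e.trans (Cfsg.Agent.H64.ChevField.groupCongr (FiniteField.ringEquivOfCardEq (by rw [hF', hF])) Lie.chevG2)⟩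
  · subst h; exact (no_td4 hSom hr).elim

end Cfsg.Agent.H542.G2X.Three
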